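import Cfsg.Agent.H915.Gs.Base

/-!
# Groups generated by conjugates of an element (helper500), S4327

`RS x k H` : some `k` conjugates of the element `x` generate a group containing `H`.
-/

set_option autoImplicit false

namespace Cfsg.Agent.H500.Gs

open Subgroup Cfsg.Agent.H915.Gs

section

variable {G : Type*} [Group G]

/-- some `k` conjugates of `x` generate a group containing `H` -/
def RS (x : G) (k : ℕ) (H : Subgroup G) : Prop :=
  ∃ f : Fin k → G, H ≤ closure (Set.range fun i => f i * x * (f i)⁻¹)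

variable {x : G} {k l : ℕ} {H K : Subgroup G}

theorem RS.sub (h : RS x k H) (hK : K ≤ H) : RS x k K := by
  obtain ⟨f, hf⟩ := h
  exact ⟨f, hK.trans hf⟩

theorem RS.sup (h : RS x k H) (h' : RS x l K) : RS x (k + l) (H ⊔ K) := by
  obtain ⟨f, hf⟩ := h
  obtain ⟨g, hg⟩ := h'
  refine ⟨Fin.append f g, sup_le (hf.trans ?_) (hg.trans ?_)⟩
  · rw [closure_le]
    rintro _ ⟨i, rfl⟩
    apply Subgroup.subset_closure
    exact ⟨Fin.castAdd l i, by simp⟩
  · rw [closure_le]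
    rintro _ ⟨i, rfl⟩
    apply Subgroup.subset_closure
    exact ⟨Fin.natAdd k i, by simp⟩

theorem RS.mono (h : RS x k H) {k' : ℕ} (hk : 1 ≤ k) (hkk : k ≤ k') : RS x k' H := by
  obtain ⟨f, hf⟩ := h
  refine ⟨fun i => if h : (i : ℕ) < k then f ⟨i, h⟩ else f ⟨0, hk⟩, hf.trans ?_⟩
  rw [closure_le]
  rintro _ ⟨i, rfl⟩
  apply Subgroup.subset_closure
  refine ⟨⟨i, i.2.trans_le hkk⟩, ?_⟩
  simp [i.2]

theorem RS.conj (h : RS x k H) (g : G) : RS x k (H.map (MulAut.conj g).toMonoidHom) := by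
  obtain ⟨f, hf⟩ := h
  refine ⟨fun i => g * f i, (Subgroup.map_mono hf).trans ?_⟩
  rw [MonoidHom.map_closure, closure_le]
  rintro _ ⟨_, ⟨i, rfl⟩, rfl⟩
  apply Subgroup.subset_closure
  refine ⟨i, ?_⟩
  simp only [MulEquiv.coe_toMonoidHom, MulAut.conj_apply]
  group

theorem RS.comm (x y : G) : RS x 2 (zpowers (x * y * x⁻¹ * y⁻¹)) := by
  refine ⟨![1, y], ?_⟩
  rw [zpowers_le]
  have h1 : x ∈ closure (Set.range fun i => (![1, y] : Fin 2 → G) i * x * ((![1, y] : Fin 2 → G) i)⁻¹) :=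
    Subgroup.subset_closure ⟨0, by simp⟩
  have h2 : y * x * y⁻¹ ∈ closure (Set.range fun i => (![1, y] : Fin 2 → G) i * x * ((![1, y] : Fin 2 → G) i)⁻¹) :=
    Subgroup.subset_closure ⟨1, by simp⟩
  have h3 := mul_mem h1 (inv_mem h2)
  have h4 : x * (y * x * y⁻¹)⁻¹ = x * y * x⁻¹ * y⁻¹ := by group
  rwa [h4] at h3

theorem RS.comm' (x y : G) : RS x 2 (zpowers (y * x * y⁻¹ * x⁻¹)) := by
  have h := RS.comm x y
  refine h.sub ?_
  rw [zpowers_le]
  have h1 := inv_mem (mem_zpowers (x * y * x⁻¹ * y⁻¹))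
  have h2 : (x * y * x⁻¹ * y⁻¹)⁻¹ = y * x * y⁻¹ * x⁻¹ := by group
  rwa [h2] at h1

theorem RS.zpow_conj {y : G} (h : RS x k (zpowers y)) (g : G) : RS x k (zpowers (g * y * g⁻¹)) := by
  have h1 := h.conj g
  rwa [MonoidHom.map_zpowers] at h1

/-- for the inner automorphism -/
theorem RS.reach (h : RS x k H) : Reach (MulAut.conj x : MulAut G) k H := by
  obtain ⟨f, hf⟩ := h
  refine ⟨f, (Subgroup.map_mono hf).trans ?_⟩
  rw [MonoidHom.map_closure, closure_le]
  rintro _ ⟨_, ⟨i, rfl⟩, rfl⟩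
  apply Subgroup.subset_closure
  exact ⟨i, by simp only [map_mul, map_inv]⟩

theorem RS.ord [Finite G] (hinj : Function.Injective (MulAut.conj : G →* MulAut G)) {r : ℕ} (h : RS x k H)
    (hr : r ∣ Nat.card H) : Ord (MulAut.conj x : MulAut G) k r := h.reach.ord hinj hr

end

end Cfsg.Agent.H500.Gs
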