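import Mathlib
import Cfsg.Agent.H914.Gs.SpBase

/-!
# `Sp_{2m}(3)`: closure of the set of centres of transvections (helper500), S4327
-/

set_option autoImplicit false
set_option linter.unusedSimpArgs false

namespace Cfsg.Agent.H500.Gs.Q3

open Subgroup Cfsg Cfsg.Agent.H915.Gs Cfsg.Agent.H914.Gs
open Cfsg.Agent.ClassicalGeometry.SympBasic Cfsg.Agent.ClassicalGeometry.SympSiegel

variable {F : Type*} [Field F] {m : ℕ}

local notation "V" => (Fin m ⊕ Fin m → F)
local notation "G" => Matrix.symplecticGroup (Fin m) F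
local notation "f" => sympForm m F

/-- the field of three elements -/
structure Three (F : Type*) [Field F] : Prop where
  three : (3 : F) = 0
  all : ∀ a : F, a = 0 ∨ a = 1 ∨ a = -1

theorem three_of_card (hF : Nat.card F = 3) : Three F := by
  have hfin : Finite F := Nat.finite_of_card_ne_zero (by omega)
  have := Fintype.ofFinite F
  have hc : Fintype.card F = 3 := by rwa [← Nat.card_eq_fintype_card]
  refine ⟨?_, fun a => ?_⟩
  · have h := Nat.cast_card_eq_zero F
    rw [hc] at h
    exact_mod_cast h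
  · have h := FiniteField.pow_card a
    rw [hc] at h
    have h1 : a * ((a - 1) * (a + 1)) = 0 := by linear_combination h
    rcases mul_eq_zero.1 h1 with h2 | h2
    · exact Or.inl h2
    · rcases mul_eq_zero.1 h2 with h3 | h3
      · exact Or.inr (Or.inl (by linear_combination h3))
      · exact Or.inr (Or.inr (by linear_combination h3))

/-- the centres of the transvections of `H` -/
def PP (H : Subgroup G) : Set V := {v | transv v 1 ∈ H}

/-- closed under signs and sums of non-orthogonal pairs -/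
structure Cl (P : Set V) : Prop where
  neg : ∀ v ∈ P, -v ∈ P
  add : ∀ u ∈ P, ∀ v ∈ P, f u v ≠ 0 → u + v ∈ P

theorem Cl.sub {P : Set V} (hP : Cl P) {u v : V} (hu : u ∈ P) (hv : v ∈ P) (huv : f u v ≠ 0) : u - v ∈ P := by
  rw [sub_eq_add_neg]
  exact hP.add u hu _ (hP.neg v hv) (by rw [sympForm_neg_right]; exact neg_ne_zero.2 huv)

theorem transv_neg (v : V) (c : F) : transv (-v) c = transv v c := by
  rw [← neg_one_smul F v, transv_smul_vec]
  congr 1
  ring

variable {H : Subgroup (Matrix.symplecticGroup (Fin m) F)}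

theorem PP.act {g : G} (hg : g ∈ H) {v : V} (hv : v ∈ PP H) : g • v ∈ PP H := by
  change transv (g • v) 1 ∈ H
  rw [← conj_transv]
  exact mul_mem (mul_mem hg hv) (inv_mem hg)

theorem PP.cl (h : Three F) : Cl (PP H) := by
  refine ⟨fun v hv => ?_, fun u hu v hv huv => ?_⟩
  · change transv (-v) 1 ∈ H
    rw [transv_neg]
    exact hv
  · have h1 := PP.act hu hv
    have h2 := PP.act (inv_mem hu) hv
    rw [transv_smul, one_mul, sympForm_swap v u] at h1
    rw [transv_inv, transv_smul, sympForm_swap v u] at h2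
    rcases h.all (f u v) with h3 | h3 | h3
    · exact absurd h3 huv
    · rw [h3] at h2
      have h4 : v + (-1 * -1 : F) • u = u + v := by
        rw [show (-1 * -1 : F) = 1 by ring, one_smul, add_comm]
      rwa [h4] at h2
    · rw [h3] at h1
      rwa [neg_neg, one_smul, add_comm] at h1

theorem PP.full (h : Three F) {v : V} (hv : v ∈ PP H) (c : F) : transv v c ∈ H := by
  rcases h.all c with rfl | rfl | rfl
  · rw [transv_zero]
    exact one_mem H
  · exact hv
  · rw [← transv_inv]
    exact inv_mem hv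

/-- **growth** -/
theorem Cl.grow (h : Three F) {P : Set V} (hP : Cl P) {A : Submodule F V}
    (hA : ∀ u ∈ A, u ≠ 0 → ∃ w ∈ A, f u w ≠ 0) (hAP : ∀ a ∈ A, a ≠ 0 → a ∈ P) {c d : V} (hcd : f c d ≠ 0)
    (hc : ∀ a ∈ A, f a c = 0) (hd : ∀ a ∈ A, f a d = 0) {a₀ a₁ : V} (ha₀ : a₀ ∈ A) (h0 : a₀ ≠ 0)
    (ha₁ : a₁ ∈ A) (h1 : a₁ ≠ 0) (hac : a₀ + c ∈ P) (had : a₁ + d ∈ P) {a : V} (ha : a ∈ A)
    {α β : F} (hne : a + α • c + β • d ≠ 0) : a + α • c + β • d ∈ P := by
  have h3 := h.three
  have hc' : ∀ a ∈ A, f c a = 0 := fun a ha => by rw [sympForm_swap, hc a ha, neg_zero]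
  have hd' : ∀ a ∈ A, f d a = 0 := fun a ha => by rw [sympForm_swap, hd a ha, neg_zero]
  have both : ∀ u ∈ A, ∀ v ∈ A, u ≠ 0 → v ≠ 0 → ∃ w ∈ A, f u w ≠ 0 ∧ f v w ≠ 0 := by
    intro u hu v hv hu0 hv0
    obtain ⟨w1, hw1, e1⟩ := hA u hu hu0
    obtain ⟨w2, hw2, e2⟩ := hA v hv hv0
    by_cases e3 : f v w1 = 0
    · by_cases e4 : f u w2 = 0
      · exact ⟨w1 + w2, A.add_mem hw1 hw2, by rw [sympForm_add_right, e4, add_zero]; exact e1,
          by rw [sympForm_add_right, e3, zero_add]; exact e2⟩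
      · exact ⟨w2, hw2, e4, e2⟩
    · exact ⟨w1, hw1, e1, e3⟩
  have step : ∀ e : V, (∀ a ∈ A, f e a = 0) → ∀ a ∈ A, ∀ a' ∈ A, f a a' ≠ 0 → a + e ∈ P → a' + e ∈ P := by
    intro e he a ha a' ha' haa hae
    have h2 : a' - a ∈ P := by
      refine hAP _ (A.sub_mem ha' ha) fun h4 => haa ?_
      rw [sub_eq_zero.1 h4, sympForm_self]
    have h5 : a' + e = a + e + (a' - a) := by abel
    rw [h5]
    refine hP.add _ hae _ h2 ?_
    rw [sympForm_add_left, he _ (A.sub_mem ha' ha), sympForm_sub_right, sympForm_self, sub_zero, add_zero]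
    exact haa
  have all : ∀ e : V, (∀ a ∈ A, f e a = 0) → ∀ a ∈ A, a ≠ 0 → a + e ∈ P → ∀ a' ∈ A, a' ≠ 0 → a' + e ∈ P := by
    intro e he a ha ha0 hae a' ha' ha0'
    obtain ⟨w, hw, hw1, hw2⟩ := both a ha a' ha' ha0 ha0'
    refine step e he w hw a' ha' (by rw [sympForm_swap]; exact neg_ne_zero.2 hw2) (step e he a ha w hw hw1 hae)
  have hallc : ∀ a ∈ A, a ≠ 0 → ∀ α : F, a + α • c ∈ P := by
    intro a ha ha0 α
    rcases h.all α with rfl | rfl | rfl
    · rw [zero_smul, add_zero]
      exact hAP a ha ha0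
    · rw [one_smul]
      exact all c hc' a₀ ha₀ h0 hac a ha ha0
    · have h5 := hP.neg _ (all c hc' a₀ ha₀ h0 hac (-a) (A.neg_mem ha) (neg_ne_zero.2 ha0))
      have h6 : a + (-1 : F) • c = -(-a + c) := by rw [neg_one_smul]; abel
      rwa [h6]
  have halld : ∀ a ∈ A, a ≠ 0 → ∀ α : F, a + α • d ∈ P := by
    intro a ha ha0 α
    rcases h.all α with rfl | rfl | rfl
    · rw [zero_smul, add_zero]
      exact hAP a ha ha0
    · rw [one_smul]
      exact all d hd' a₁ ha₁ h1 had a ha ha0
    · have h5 := hP.neg _ (all d hd' a₁ ha₁ h1 had (-a) (A.neg_mem ha) (neg_ne_zero.2 ha0))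
      have h6 : a + (-1 : F) • d = -(-a + d) := by rw [neg_one_smul]; abel
      rwa [h6]
  have hmix : ∀ a ∈ A, ∀ α β : F, α ≠ 0 → β ≠ 0 → a + α • c + β • d ∈ P := by
    intro a ha α β hα hβ
    have key : ∀ a' ∈ A, ∀ a'' ∈ A, a' ≠ 0 → a'' ≠ 0 → f a' a'' = 0 → a' + a'' + α • c + β • d ∈ P := by
      intro a' ha' a'' ha'' h5 h6 h7
      have h8 := hP.add _ (hallc a' ha' h5 α) _ (halld a'' ha'' h6 β) (by
        rw [sympForm_add_left, sympForm_add_right, sympForm_add_right, h7, sympForm_smul_right, hd a' ha',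
          sympForm_smul_left, hc' a'' ha'', sympForm_smul_left, sympForm_smul_right]
        simp [hα, hβ, hcd])
      have h9 : a' + a'' + α • c + β • d = a' + α • c + (a'' + β • d) := by abel
      rwa [h9]
    by_cases ha0 : a = 0
    · have h5 := key a₀ ha₀ (-a₀) (A.neg_mem ha₀) h0 (neg_ne_zero.2 h0) (by
        rw [sympForm_neg_right, sympForm_self, neg_zero])
      rwa [add_neg_cancel, ← ha0] at h5
    · have h5 := key (-a) (A.neg_mem ha) (-a) (A.neg_mem ha) (neg_ne_zero.2 ha0) (neg_ne_zero.2 ha0)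
        (sympForm_self _)
      have h6 : -a + -a = a := by
        ext i
        simp only [Pi.add_apply, Pi.neg_apply]
        linear_combination (-(a i)) * h3
      rwa [h6] at h5
  by_cases ha0 : a = 0
  · subst ha0
    by_cases hα : α = 0
    · subst hα
      have hβ : β ≠ 0 := by
        rintro rfl
        apply hne
        simp
      have h5 := hP.sub (hmix a₀ ha₀ 1 β one_ne_zero hβ) (hallc a₀ ha₀ h0 1) (by
        rw [sympForm_add_left, sympForm_add_left, sympForm_add_right, sympForm_add_right, sympForm_add_right,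
          sympForm_self, one_smul, hc a₀ ha₀, hc' a₀ ha₀, sympForm_self, sympForm_smul_left, sympForm_smul_left,
          hd' a₀ ha₀, sympForm_swap d c]
        simp [hβ, hcd])
      have h6 : (0 : V) + (0 : F) • c + β • d = a₀ + (1 : F) • c + β • d - (a₀ + (1 : F) • c) := by
        rw [zero_smul]
        abel
      rwa [h6]
    · by_cases hβ : β = 0
      · subst hβ
        have h5 := hP.sub (hmix a₀ ha₀ α 1 hα one_ne_zero) (halld a₀ ha₀ h0 1) (by
          rw [sympForm_add_left, sympForm_add_left, sympForm_add_right, sympForm_add_right, sympForm_add_right,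
            sympForm_self, one_smul, hd a₀ ha₀, hd' a₀ ha₀, sympForm_self, sympForm_smul_left, sympForm_smul_left,
            hc' a₀ ha₀]
          simp [hα, hcd])
        have h6 : (0 : V) + α • c + (0 : F) • d = a₀ + α • c + (1 : F) • d - (a₀ + (1 : F) • d) := by
          rw [zero_smul]
          abel
        rwa [h6]
      · exact hmix 0 A.zero_mem α β hα hβ
  · by_cases hα : α = 0
    · subst hα
      rw [zero_smul, add_zero]
      exact halld a ha ha0 β
    · by_cases hβ : β = 0
      · subst hβ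
        rw [zero_smul, add_zero]
        exact hallc a ha ha0 α
      · exact hmix a ha α β hα hβ

/-- from a plane -/
theorem Cl.fill (h : Three F) {P : Set V} (hP : Cl P) {p q c d : V} (hpq : f p q ≠ 0) (hp : p ∈ P) (hq : q ∈ P)
    (hcd : f c d ≠ 0) (hpc : f p c = 0) (hpd : f p d = 0) (hqc : f q c = 0) (hqd : f q d = 0)
    {α₀ β₀ α₁ β₁ : F} (h0 : α₀ ≠ 0 ∨ β₀ ≠ 0) (h1 : α₁ ≠ 0 ∨ β₁ ≠ 0) (hac : α₀ • p + β₀ • q + c ∈ P)
    (had : α₁ • p + β₁ • q + d ∈ P) (α β γ δ : F) (hne : α • p + β • q + γ • c + δ • d ≠ 0) :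
    α • p + β • q + γ • c + δ • d ∈ P := by
  have hform : ∀ (x y : F), f (x • p + y • q) q = x * f p q := by
    intro x y
    rw [sympForm_add_left, sympForm_smul_left, sympForm_smul_left, sympForm_self, mul_zero, add_zero]
  have hform' : ∀ (x y : F), f (x • p + y • q) p = - (y * f p q) := by
    intro x y
    rw [sympForm_add_left, sympForm_smul_left, sympForm_smul_left, sympForm_self, mul_zero, zero_add,
      sympForm_swap q p, mul_neg]
  have hnz : ∀ x y : F, (x ≠ 0 ∨ y ≠ 0) → x • p + y • q ≠ 0 := by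
    intro x y hxy h2
    rcases hxy with h3 | h3
    · have := hform x y
      rw [h2, sympForm_zero_left] at this
      exact mul_ne_zero h3 hpq this.symm
    · have := hform' x y
      rw [h2, sympForm_zero_left] at this
      exact neg_ne_zero.2 (mul_ne_zero h3 hpq) this.symm
  have hqp : f q p ≠ 0 := by
    rw [sympForm_swap]
    exact neg_ne_zero.2 hpq
  have hAP : ∀ a ∈ Submodule.span F {p, q}, a ≠ 0 → a ∈ P := by
    intro a ha ha0
    obtain ⟨x, y, rfl⟩ := Submodule.mem_span_pair.1 ha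
    have e1 : p + q ∈ P := hP.add p hp q hq hpq
    have e2 : p - q ∈ P := hP.sub hp hq hpq
    have e3 : -p - q ∈ P := hP.sub (hP.neg p hp) hq (by rw [sympForm_neg_left]; exact neg_ne_zero.2 hpq)
    have e4 : -p + q ∈ P := hP.add _ (hP.neg p hp) q hq (by rw [sympForm_neg_left]; exact neg_ne_zero.2 hpq)
    rcases h.all x with rfl | rfl | rfl <;> rcases h.all y with rfl | rfl | rfl
    · exact absurd (by simp) ha0
    · simpa using hq
    · simpa using hP.neg q hq
    · simpa using hp
    · simpa using e1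
    · simpa [sub_eq_add_neg] using e2
    · simpa using hP.neg p hp
    · simpa using e4
    · simpa [sub_eq_add_neg] using e3
  refine hP.grow h (A := Submodule.span F {p, q}) ?_ hAP hcd ?_ ?_ (Submodule.mem_span_pair.2 ⟨α₀, β₀, rfl⟩)
    (hnz _ _ h0) (Submodule.mem_span_pair.2 ⟨α₁, β₁, rfl⟩) (hnz _ _ h1) hac had
    (Submodule.mem_span_pair.2 ⟨α, β, rfl⟩) hne
  · intro u hu hu0
    obtain ⟨x, y, rfl⟩ := Submodule.mem_span_pair.1 hu
    by_cases hx : x = 0
    · have hy : y ≠ 0 := by
        rintro rfl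
        apply hu0
        rw [hx]
        simp
      exact ⟨p, Submodule.subset_span (by simp), by rw [hform']; exact neg_ne_zero.2 (mul_ne_zero hy hpq)⟩
    · exact ⟨q, Submodule.subset_span (by simp), by rw [hform]; exact mul_ne_zero hx hpq⟩
  · intro a ha
    obtain ⟨x, y, rfl⟩ := Submodule.mem_span_pair.1 ha
    rw [sympForm_add_left, sympForm_smul_left, sympForm_smul_left, hpc, hqc]
    simp
  · intro a ha
    obtain ⟨x, y, rfl⟩ := Submodule.mem_span_pair.1 ha
    rw [sympForm_add_left, sympForm_smul_left, sympForm_smul_left, hpd, hqd]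
    simp

end Cfsg.Agent.H500.Gs.Q3
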