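import Mathlib
import Cfsg.Agent.H107.SpTr
import Cfsg.Agent.H500.Gs.RS

/-!
# `Sp_{2m}(2)` and its transvections (helper500), S4327

`R H u v` : `t u * t v ∈ H`, an equivalence relation closed under sums of non-orthogonal pairs.
-/

set_option autoImplicit false

namespace Cfsg.Agent.H500.Gs

open Subgroup Cfsg.Agent.H107.SpTr Cfsg.Agent.ClassicalGeometry.SympBasic

variable {m : ℕ} {F : Type*} [Field F]

local notation "⟪" u ", " v "⟫" => Cfsg.sympForm m F u v

/-- the transvection -/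
def t (v : Fin m ⊕ Fin m → F) : Matrix.symplecticGroup (Fin m) F := transv v 1

theorem act_t (v x : Fin m ⊕ Fin m → F) : act (t v) x = x + ⟪x, v⟫ • v := by
  rw [t, act_transv, one_mul]

theorem conj_t (g : Matrix.symplecticGroup (Fin m) F) (v : Fin m ⊕ Fin m → F) :
    g * t v * g⁻¹ = t (act g v) := conj_transv g v 1

/-- the field of two elements -/
def Two (F : Type*) [Field F] : Prop := ∀ a : F, a = 0 ∨ a = 1

theorem Two.one_add (h : Two F) : (1 : F) + 1 = 0 := by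
  rcases h (1 + 1) with h | h
  · exact h
  · exfalso
    have : (1 : F) = 0 := by linear_combination h
    exact one_ne_zero this

theorem Two.add_self (h : Two F) (a : F) : a + a = 0 := by
  linear_combination a * h.one_add

theorem Two.neg (h : Two F) (a : F) : -a = a := by
  linear_combination -a * h.one_add

theorem Two.vadd (h : Two F) {ι : Type*} (v : ι → F) : v + v = 0 := by
  ext i
  exact h.add_self _

theorem Two.vadd_cancel (h : Two F) {ι : Type*} (u v : ι → F) : u + (u + v) = v := by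
  rw [← add_assoc, h.vadd, zero_add]

theorem Two.vadd_cancel' (h : Two F) {ι : Type*} (u v : ι → F) : u + (v + u) = v := by
  rw [add_comm v, h.vadd_cancel]

theorem Two.eq_one (h : Two F) {a : F} (ha : a ≠ 0) : a = 1 := (h a).resolve_left ha

theorem Two.vadd_eq_zero (h : Two F) {ι : Type*} {u v : ι → F} (huv : u + v = 0) : u = v := by
  have := h.vadd_cancel u v
  rw [huv, add_zero] at this
  exact this

theorem Two.ne_of_form (_ : Two F) {u v : Fin m ⊕ Fin m → F} (huv : ⟪u, v⟫ = 1) : u ≠ v := by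
  rintro rfl
  rw [sympForm_self] at huv
  exact zero_ne_one huv

theorem ne_zero_left {u v : Fin m ⊕ Fin m → F} (huv : ⟪u, v⟫ = 1) : u ≠ 0 := by
  rintro rfl
  rw [sympForm_zero_left] at huv
  exact zero_ne_one huv

theorem ne_zero_right {u v : Fin m ⊕ Fin m → F} (huv : ⟪u, v⟫ = 1) : v ≠ 0 := by
  rintro rfl
  rw [sympForm_zero_right] at huv
  exact zero_ne_one huv

theorem Two.comm (h : Two F) (u v : Fin m ⊕ Fin m → F) : ⟪u, v⟫ = ⟪v, u⟫ := by
  rw [sympForm_swap, h.neg]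

theorem Two.t_sq (h : Two F) (v : Fin m ⊕ Fin m → F) : t v * t v = 1 := by
  rw [t, transv_mul, h.one_add, transv_zero]

theorem Two.t_inv (h : Two F) (v : Fin m ⊕ Fin m → F) : (t v)⁻¹ = t v := by
  rw [inv_eq_iff_mul_eq_one, h.t_sq]

theorem Two.t_comm (h : Two F) {u v : Fin m ⊕ Fin m → F} (huv : ⟪u, v⟫ = 0) : t u * t v = t v * t u := by
  have h1 := conj_t (t u) v
  rw [act_t, h.comm, huv, zero_smul, add_zero, mul_inv_eq_iff_eq_mul] at h1
  exact h1

/-- `t (u + v) = t u * t v * t u` -/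
theorem Two.t_add (h : Two F) {u v : Fin m ⊕ Fin m → F} (huv : ⟪u, v⟫ = 1) : t (u + v) = t u * t v * t u := by
  have h1 := conj_t (t u) v
  rw [act_t, h.comm, huv, one_smul, h.t_inv, add_comm] at h1
  exact h1.symm

/-- `t u * t v` lies in `H` -/
def R (H : Subgroup (Matrix.symplecticGroup (Fin m) F)) (u v : Fin m ⊕ Fin m → F) : Prop := t u * t v ∈ H

variable {H : Subgroup (Matrix.symplecticGroup (Fin m) F)} {u v w : Fin m ⊕ Fin m → F}

theorem R.refl (h : Two F) (u : Fin m ⊕ Fin m → F) : R H u u := by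
  rw [R, h.t_sq]
  exact one_mem H

theorem R.symm (h : Two F) (huv : R H u v) : R H v u := by
  have := inv_mem huv
  rwa [mul_inv_rev, h.t_inv, h.t_inv] at this

theorem R.trans (h : Two F) (huv : R H u v) (hvw : R H v w) : R H u w := by
  have := mul_mem huv hvw
  rwa [mul_assoc, ← mul_assoc (t v), h.t_sq, one_mul] at this

theorem R.add (h : Two F) (huv : R H u v) (h1 : ⟪u, v⟫ = 1) : R H u (u + v) := by
  rw [R, h.t_add h1, mul_assoc, ← mul_assoc (t u), h.t_sq, one_mul]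
  exact huv.symm h

theorem R.act {y : Matrix.symplecticGroup (Fin m) F} (hy : y ∈ H) (huv : R H u v) :
    R H (act y u) (act y v) := by
  have h1 := mul_mem (mul_mem hy huv) (inv_mem hy)
  rw [R, ← conj_t, ← conj_t]
  have h2 : y * t u * y⁻¹ * (y * t v * y⁻¹) = y * (t u * t v) * y⁻¹ := by group
  rwa [h2]

theorem R.mono {K : Subgroup (Matrix.symplecticGroup (Fin m) F)} (huv : R H u v) (hle : H ≤ K) : R K u v := hle huv

/-- closed under sums of non-orthogonal pairs -/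
def C1 (P : Set (Fin m ⊕ Fin m → F)) : Prop := ∀ u ∈ P, ∀ v ∈ P, ⟪u, v⟫ = 1 → u + v ∈ P

theorem C1.class (h : Two F) (w : Fin m ⊕ Fin m → F) : C1 {v | R H w v} := by
  intro u hu v hv huv
  have h1 : R H u v := (R.symm h hu).trans h hv
  exact hu.trans h (h1.add h huv)

theorem C1.transv (h : Two F) : C1 {v : Fin m ⊕ Fin m → F | t v ∈ H} := by
  intro u hu v hv huv
  change t (u + v) ∈ H
  rw [h.t_add huv]
  exact mul_mem (mul_mem hu hv) hu

/-- conditions on the subspace `A` -/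
structure Nd (A : Submodule F (Fin m ⊕ Fin m → F)) : Prop where
  nd : ∀ u ∈ A, u ≠ 0 → ∃ w ∈ A, ⟪u, w⟫ = 1
  four : ∀ u ∈ A, u ≠ 0 → ∃ w ∈ A, w ≠ 0 ∧ w ≠ u ∧ ⟪u, w⟫ = 0

theorem Nd.both (h : Two F) {A : Submodule F (Fin m ⊕ Fin m → F)} (hA : Nd A) {u v : Fin m ⊕ Fin m → F}
    (hu : u ∈ A) (hv : v ∈ A) (hu0 : u ≠ 0) (hv0 : v ≠ 0) : ∃ w ∈ A, ⟪u, w⟫ = 1 ∧ ⟪v, w⟫ = 1 := by
  obtain ⟨w1, hw1, h1⟩ := hA.nd u hu hu0
  obtain ⟨w2, hw2, h2⟩ := hA.nd v hv hv0
  rcases h (⟪v, w1⟫) with h3 | h3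
  · rcases h (⟪u, w2⟫) with h4 | h4
    · exact ⟨w1 + w2, A.add_mem hw1 hw2, by rw [sympForm_add_right, h1, h4, add_zero],
        by rw [sympForm_add_right, h3, h2, zero_add]⟩
    · exact ⟨w2, hw2, h4, h2⟩
  · exact ⟨w1, hw1, h1, h3⟩

/-- **growth** -/
theorem C1.grow (h : Two F) {P : Set (Fin m ⊕ Fin m → F)} (hP : C1 P) {A : Submodule F (Fin m ⊕ Fin m → F)}
    (hA : Nd A) (hAP : ∀ a ∈ A, a ≠ 0 → a ∈ P) {c d : Fin m ⊕ Fin m → F} (hcd : ⟪c, d⟫ = 1)
    (hc : ∀ a ∈ A, ⟪a, c⟫ = 0) (hd : ∀ a ∈ A, ⟪a, d⟫ = 0) {a₀ a₁ : Fin m ⊕ Fin m → F} (ha₀ : a₀ ∈ A) (h0 : a₀ ≠ 0)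
    (ha₁ : a₁ ∈ A) (h1 : a₁ ≠ 0) (hac : a₀ + c ∈ P) (had : a₁ + d ∈ P) {a : Fin m ⊕ Fin m → F} (ha : a ∈ A)
    {α β : F} (hne : a + α • c + β • d ≠ 0) : a + α • c + β • d ∈ P := by
  have hc' : ∀ a ∈ A, ⟪c, a⟫ = 0 := fun a ha => by rw [h.comm, hc a ha]
  have hd' : ∀ a ∈ A, ⟪d, a⟫ = 0 := fun a ha => by rw [h.comm, hd a ha]
  have hdc : ⟪d, c⟫ = 1 := by rw [h.comm, hcd]
  -- Step 1
  have step : ∀ e : Fin m ⊕ Fin m → F, (∀ a ∈ A, ⟪e, a⟫ = 0) → ∀ a ∈ A, ∀ a' ∈ A, ⟪a, a'⟫ = 1 → a + e ∈ P → a' + e ∈ P := by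
    intro e he a ha a' ha' haa hae
    have h2 : a + a' ∈ P := by
      refine hAP _ (A.add_mem ha ha') fun h3 => ?_
      have := h.vadd_eq_zero h3
      exact h.ne_of_form haa this
    have h3 : a + e + (a + a') = a' + e := by
      have := h.vadd a
      calc a + e + (a + a') = (a + a) + (a' + e) := by abel
        _ = a' + e := by rw [this, zero_add]
    rw [← h3]
    refine hP _ hae _ h2 ?_
    rw [sympForm_add_left, he _ (A.add_mem ha ha'), sympForm_add_right, sympForm_self, haa, zero_add, add_zero]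
  have all : ∀ e : Fin m ⊕ Fin m → F, (∀ a ∈ A, ⟪e, a⟫ = 0) → ∀ a ∈ A, a ≠ 0 → a + e ∈ P → ∀ a' ∈ A, a' ≠ 0 → a' + e ∈ P := by
    intro e he a ha ha0 hae a' ha' ha0'
    obtain ⟨w, hw, hw1, hw2⟩ := hA.both h ha ha' ha0 ha0'
    refine step e he w hw a' ha' (by rw [h.comm, hw2]) (step e he a ha w hw hw1 hae)
  have hallc := all c hc' a₀ ha₀ h0 hac
  have halld := all d hd' a₁ ha₁ h1 had
  -- Step 2
  have hcd2 : c + d ∈ P := by
    have h3 := hP _ (hallc a₀ ha₀ h0) _ (halld a₀ ha₀ h0) (by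
      rw [sympForm_add_left, sympForm_add_right, sympForm_add_right, sympForm_self, hd a₀ ha₀, hc' a₀ ha₀, hcd]
      simp)
    have h4 : a₀ + c + (a₀ + d) = c + d := by
      have := h.vadd a₀
      calc a₀ + c + (a₀ + d) = (a₀ + a₀) + (c + d) := by abel
        _ = c + d := by rw [this, zero_add]
    rwa [h4] at h3
  have hall2 : ∀ a ∈ A, a ≠ 0 → a + c + d ∈ P := by
    intro a ha ha0
    obtain ⟨w, hw, hw0, hwa, haw⟩ := hA.four a ha ha0
    have h5 : a + w ≠ 0 := fun h6 => hwa (h.vadd_eq_zero h6).symm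
    have h3 := hP _ (hallc w hw hw0) _ (halld (a + w) (A.add_mem ha hw) h5) (by
      rw [sympForm_add_left, sympForm_add_right, sympForm_add_right, sympForm_add_right, hd w hw,
        hc' _ (A.add_mem ha hw), hcd, sympForm_self, h.comm w a, haw]
      simp)
    have h4 : w + c + (a + w + d) = a + c + d := by
      have := h.vadd w
      calc w + c + (a + w + d) = (w + w) + (a + c + d) := by abel
        _ = a + c + d := by rw [this, zero_add]
    rwa [h4] at h3
  -- Step 3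
  have hcP : c ∈ P := by
    have h3 := hP _ (halld a₀ ha₀ h0) _ (hall2 a₀ ha₀ h0) (by
      rw [sympForm_add_left, sympForm_add_right, sympForm_add_right, sympForm_add_right, sympForm_add_right,
        sympForm_self, sympForm_self, hc a₀ ha₀, hd a₀ ha₀, hd' a₀ ha₀, hdc]
      simp)
    have h4 : a₀ + d + (a₀ + c + d) = c := by
      have := h.vadd (a₀ + d)
      calc a₀ + d + (a₀ + c + d) = (a₀ + d + (a₀ + d)) + c := by abel
        _ = c := by rw [this, zero_add]
    rwa [h4] at h3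
  have hdP : d ∈ P := by
    have h3 := hP _ (hallc a₀ ha₀ h0) _ (hall2 a₀ ha₀ h0) (by
      rw [sympForm_add_left, sympForm_add_right, sympForm_add_right, sympForm_add_right, sympForm_add_right,
        sympForm_self, sympForm_self, hc a₀ ha₀, hd a₀ ha₀, hc' a₀ ha₀, hcd]
      simp)
    have h4 : a₀ + c + (a₀ + c + d) = d := by
      have := h.vadd (a₀ + c)
      calc a₀ + c + (a₀ + c + d) = (a₀ + c + (a₀ + c)) + d := by abel
        _ = d := by rw [this, zero_add]
    rwa [h4] at h3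
  by_cases ha0 : a = 0
  · subst ha0
    rcases h α with rfl | rfl <;> rcases h β with rfl | rfl
    · exfalso
      apply hne
      simp
    · simpa using hdP
    · simpa using hcP
    · simpa using hcd2
  · rcases h α with rfl | rfl <;> rcases h β with rfl | rfl
    · simpa using hAP a ha ha0
    · simpa using halld a ha ha0
    · simpa using hallc a ha ha0
    · simpa using hall2 a ha ha0

end Cfsg.Agent.H500.Gs
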